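import Groth.Agent.Lib.Perfect.Amplitude
import Groth.Agent.Lib.Perfect.Coherent
import Groth.Agent.Lib.DerivedOX.DualMain
import Groth.Agent.Lib.H15.PerfAdj.Main
import Groth.Agent.Lib.RHomO.Main
import Groth.Agent.H83.ProjPCCrit.Base
import Groth.Agent.Lib.Perfect.TildeFT
import Groth.Agent.Lib.DerivedOX.RpushCoprod
import Groth.Agent.Lib.DerivedOX.PullPushAdj
import Groth.Agent.Lib.Modules.Support

/-!
# Cohomology of a perfect object near a point where a derived fibre vanishes
-/

set_option autoImplicit false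
set_option linter.style.haveILetI false
set_option linter.unusedSectionVars false

universe u

open CategoryTheory Limits AlgebraicGeometry HomologicalComplex

attribute [local instance] HasDerivedCategory.standard

namespace Groth.Agent.Lib.H15.NearPt.Main

open Groth.Agent.Lib Groth.Agent.Lib.Modules Groth.Agent.Lib.Perfect Groth.Agent.Lib.DerivedOX
open Groth.Agent.Lib.Perfect.Basic

/-- A complex of free modules whose fibre cohomology vanishes in degree `i` is exact there. -/
theorem stalk_zero {R : CommRingCat.{u}} (E : CochainComplex (Spec R).Modules ℤ) (n : ℤ → ℕ)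
    (he : ∀ k, Nonempty (E.X k ≅ FlatMod.freeMod (Spec R) (n k)))
    (N : ℤ → ModuleCat.{u} R) (hN : ∀ k, Module.FinitePresentation R (N k))
    (hi : ∀ k, Nonempty (cokernel (E.d (k - 1) k) ≅ tilde (N k))) (p : Spec R) (i : ℤ)
    (h0 : FlatCx.Rank.fdim (A := R) (N i) p + FlatCx.Rank.fdim (A := R) (N (i + 1)) p = n (i + 1)) :
    Subsingleton ((E.homology i).presheaf.stalk p) := by
  let F := StalkModule.stalkModFunctor (Spec R) p
  haveI : PreservesFiniteColimits F := PreservesColimitsOfSize.preservesFiniteColimits _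
  let C : ℤ → (Spec R).Modules := fun k => cokernel (E.d (k - 1) k)
  let π : ∀ k, E.X k ⟶ C k := fun k => cokernel.π _
  let u : C i ⟶ E.X (i + 1) := cokernel.desc _ (E.d i (i + 1)) (E.d_comp_d _ _ _)
  have hu : π i ≫ u = E.d i (i + 1) := cokernel.π_desc _ _ _
  have huπ : u ≫ π (i + 1) = 0 := by
    rw [← cancel_epi (π i), comp_zero, ← Category.assoc, hu]
    have h : E.d (i + 1 - 1) (i + 1) ≫ π (i + 1) = 0 := cokernel.condition _
    rwa [show i + 1 - 1 = i by omega] at h
  have hex : (ShortComplex.mk u (π (i + 1)) huπ).Exact := by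
    have h1 : (ShortComplex.mk (E.d i (i + 1)) (π (i + 1))
        (by rw [← hu, Category.assoc, huπ, comp_zero])).Exact := by
      refine ShortComplex.exact_of_g_is_cokernel _ (CokernelCofork.IsColimit.ofπ' _ _ fun t ht => ?_)
      have ht' : E.d (i + 1 - 1) (i + 1) ≫ t = 0 := by
        rw [show i + 1 - 1 = i by omega]; exact ht
      exact ⟨cokernel.desc _ t ht', cokernel.π_desc _ _ _⟩
    let φ : ShortComplex.mk (E.d i (i + 1)) (π (i + 1))
        (by rw [← hu, Category.assoc, huπ, comp_zero]) ⟶ ShortComplex.mk u (π (i + 1)) huπ :=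
      { τ₁ := π i, τ₂ := 𝟙 _, τ₃ := 𝟙 _, comm₁₂ := by simp [hu], comm₂₃ := by simp }
    haveI : Epi φ.τ₁ := inferInstanceAs (Epi (cokernel.π _))
    haveI : IsIso φ.τ₂ := inferInstanceAs (IsIso (𝟙 _))
    haveI : Mono φ.τ₃ := inferInstanceAs (Mono (𝟙 _))
    exact (ShortComplex.exact_iff_of_epi_of_isIso_of_mono φ).1 h1
  haveI : ∀ k, Module.Free ((Spec R).presheaf.stalk p) (F.obj (E.X k)) := fun k =>
    (FibreStalk.finite_free_stalk (he k).some p).1
  haveI : ∀ k, Module.Finite ((Spec R).presheaf.stalk p) (F.obj (E.X k)) := fun k =>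
    (FibreStalk.finite_free_stalk (he k).some p).2.1
  have hn : ∀ k, Module.finrank ((Spec R).presheaf.stalk p) (F.obj (E.X k)) = n k := fun k =>
    (FibreStalk.finite_free_stalk (he k).some p).2.2
  have hC : ∀ k, FlatCx.Rank.fdim (A := (Spec R).presheaf.stalk p) (F.obj (C k))
      (IsLocalRing.closedPoint _) = FlatCx.Rank.fdim (A := R) (N k) p := fun k => by
    haveI := hN k
    rw [← FibreStalk.fdim_stalk_tilde (N k) p]
    exact congrFun (FlatCx.Rank.fdim_congr _ (StalkModule.stalkLinearEquiv (hi k).some p)) _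
  have hπs : ∀ k, Function.Surjective (F.map (π k)).hom := fun k =>
    (ModuleCat.epi_iff_surjective _).1 inferInstance
  haveI : ∀ k, Module.Finite ((Spec R).presheaf.stalk p) (F.obj (C k)) := fun k =>
    Module.Finite.of_surjective _ (hπs k)
  have hexs : LinearMap.range (F.map u).hom = LinearMap.ker (F.map (π (i + 1))).hom :=
    (hex.map F).moduleCat_range_eq_ker
  obtain ⟨g, hg⟩ := LocalCx.exists_surjection (A := (Spec R).presheaf.stalk p) (F.obj (C i))
  have hinj : Function.Injective ((F.map u).hom ∘ₗ g) := by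
    refine (LocalCx.injective_and_free ((F.map u).hom ∘ₗ g) (F.map (π (i + 1))).hom (hπs _) ?_ ?_).1
    · rw [LinearMap.range_comp_of_range_eq_top _ (LinearMap.range_eq_top.2 hg)]
      exact hexs
    · rw [Module.finrank_fin_fun, hC i, hC (i + 1), hn (i + 1), add_comm]
      exact h0
  have hinj' : Function.Injective (F.map u).hom := by
    intro a b hab
    obtain ⟨a, rfl⟩ := hg a
    obtain ⟨b, rfl⟩ := hg b
    exact congrArg g (hinj hab)
  let eH : F.obj (E.homology i) ≅ ModuleCat.of ((Spec R).presheaf.stalk p)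
      (LinearMap.ker (F.map u).hom) :=
    F.mapIso (E.homologyIsoSc' (i - 1) i (i + 1) (by simp) (by simp) ≪≫
      (ShortComplex.RightHomologyData.ofHasCokernelOfHasKernel
        (E.sc' (i - 1) i (i + 1))).homologyIso) ≪≫
      PreservesKernel.iso F u ≪≫ ModuleCat.kernelIsoKer _
  haveI : Subsingleton (LinearMap.ker (F.map u).hom) := by
    rw [LinearMap.ker_eq_bot.2 hinj']
    infer_instance
  exact eH.toLinearEquiv.toEquiv.subsingleton

variable {X : Scheme.{u}}

/-- If `H^i` of the derived fibre of a perfect object at a field valued point vanishes, so does the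
stalk of `H^i`. -/
theorem subsingleton_stalk_of_fibre {K : DCoh.D X} (hK : DCoh.IsPerfect K)
    {P : CochainComplex X.Modules ℤ} (hP : LeftExists.IsCof P) (eP : DerivedCategory.Q.obj P ≅ K)
    {L : CommRingCat.{u}} (hL : IsField L) (h : Spec L ⟶ X) (s : Spec L) (i : ℤ)
    (hz : IsZero (((Pullback.pC h).obj P).homology i)) :
    Subsingleton ((DCoh.HD K i).presheaf.stalk (h s)) := by
  obtain ⟨R, j, _, p, F, n, hp, hF, ⟨α⟩, he⟩ :=
    Amplitude.exists_chart ((Triangle.isPerfect_iff K).1 hK (h s))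
  choose N hN hiN using FibreDim.exists_coker n he
  haveI : Subsingleton (Spec L) := by
    letI := hL.toField
    exact inferInstanceAs (Subsingleton (PrimeSpectrum L))
  obtain ⟨g, hg, ⟨β⟩⟩ := Amplitude.exists_pull_iso h hP j hF (α ≪≫ (RD j).mapIso eP.symm) p
    (fun z => by rw [Subsingleton.elim z s, hp])
  have hFld : IsField Γ(Spec L, ⊤) :=
    ((Scheme.ΓSpecIso L).commRingCatIsoToRingEquiv.toMulEquiv).isField hL
  haveI : IsNoetherianRing L := by letI := hL.toField; infer_instance
  haveI : IsLocallyNoetherian (Spec L) := inferInstance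
  haveI : Nontrivial Γ(Spec L, ⊤) := hFld.nontrivial
  haveI : Nonempty (Spec L) := ⟨s⟩
  let G := (Pullback.pC g).obj F
  have hG : ∀ k, Nonempty (G.X k ≅ FlatMod.freeMod (Spec L) (n k)) := fun k =>
    ⟨(Scheme.Modules.pullback g).mapIso (he k).some ≪≫ TensorMod.LocFree.pullbackFreeModIso g (n k)⟩
  have hc : ∀ k, Coh.IsCoh (G.X k) := fun k =>
    CohBasics.Closure.isCoh_of_iso (hG k).some.symm (Coherent.isCoh_freeMod _ _)
  obtain ⟨φ, rfl⟩ := Spec.map_surjective g
  haveI : PreservesColimitsOfSize.{0, 0} (Scheme.Modules.pullback (Spec.map φ)) :=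
    (Scheme.Modules.pullbackPushforwardAdjunction (Spec.map φ)).leftAdjoint_preservesColimits
  have hq : Spec.map φ s = p := j.isOpenEmbedding.injective (by rw [hp, ← hg]; rfl)
  have hC : ∀ k, EulerChar.deg (Spec L) (cokernel (G.d (k - 1) k)) =
      (FlatCx.Rank.fdim (A := R) (N k) p : ℤ) := fun k => by
    haveI := hN k
    rw [← hq, ← FibreDim.deg_pullback_tilde φ hL (N k) s]
    exact FibreDim.deg_congr ((PreservesCokernel.iso (Scheme.Modules.pullback (Spec.map φ)) _).symm ≪≫
      (Scheme.Modules.pullback (Spec.map φ)).mapIso (hiN k).some)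
  have hzG : IsZero (G.homology i) :=
    hz.of_iso (((DerivedCategory.homologyFunctorFactors _ i).app G).symm ≪≫
      (DerivedCategory.homologyFunctor _ i).mapIso β ≪≫
      (DerivedCategory.homologyFunctorFactors _ i).app _)
  have h0 : EulerChar.deg (Spec L) (G.homology i) = 0 := by
    haveI : Subsingleton Γ(G.homology i, ⊤) := by
      have := (DCoh.gammaAb (Spec L)).map_isZero hzG
      exact AddCommGrpCat.subsingleton_of_isZero this
    simp [EulerChar.deg, Module.finrank_zero_of_subsingleton]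
  have h1 := FibreDim.deg_homology hFld G hc i
  have h2 := hC (i + 1)
  rw [show i + 1 - 1 = i by omega] at h2
  rw [h0, FibreDim.deg_congr (hG (i + 1)).some, EulerChar.deg_freeMod, hC i, h2] at h1
  have hs := stalk_zero F n he N hN hiN p i (by omega)
  let eK : F.homology i ≅ (DCoh.HD K i).restrict j :=
    ((DerivedCategory.homologyFunctorFactors _ i).app F).symm ≪≫
      (DerivedCategory.homologyFunctor _ i).mapIso α ≪≫ Coherent.homologyIso j K i
  have h3 : Subsingleton (((DCoh.HD K i).restrict j).presheaf.stalk p) :=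
    (StalkModule.stalkLinearEquiv eK p).toEquiv.subsingleton_congr.1 hs
  have h4 := (Modules.StalkRestrict.restrictStalkAddEquiv j (DCoh.HD K i) p).toEquiv.subsingleton_congr.1 h3
  rw [← hp]
  exact h4

open Groth.Agent.Lib.Gen43.Affine in
/-- On the spectrum of a ring, `H^0` of a quasi-coherent object without sections vanishes. -/
theorem isZero_HD_zero {A : CommRingCat.{u}} (G : DCoh.D (Spec A)) (hG : DCoh.IsQCohD G)
    (h : ∀ φ : CompactUnit.oneD (Spec A) ⟶ G, φ = 0) : IsZero (DCoh.HD G 0) := by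
  obtain ⟨C, ⟨e⟩⟩ := TildeEquiv.exists_preimage A G hG
  haveI := TildeEquiv.full A
  haveI := TildeEquiv.faithful A
  let i : (KoszulOrth36.Algebra.X ([] : List A))⟦(-0 : ℤ)⟧ ≅
      (Gen43.Ring.sg (0 : ℤ)).obj (ModuleCat.of A A) :=
    (shiftFunctorZero' _ (-0 : ℤ) neg_zero).app _ ≪≫ KoszulOrth36.Algebra.nilIso
  let j : (T A).obj ((Gen43.Ring.sg (0 : ℤ)).obj (ModuleCat.of A A)) ≅ CompactUnit.oneD (Spec A) :=
    H83.ProjPCCrit.oneShiftIso 0 0 (add_zero 0) ≪≫ (shiftFunctorZero _ ℤ).app _
  haveI : Subsingleton (Dual.HD A C 0) := by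
    refine (KoszulOrth36.Algebra.homNilEquiv C 0).symm.toEquiv.subsingleton_congr.2 ⟨fun a b => ?_⟩
    refine (cancel_epi i.inv).1 ((T A).map_injective ((cancel_epi j.inv).1 ((cancel_mono e.hom).1 ?_)))
    exact (h _).trans (h _).symm
  have hz : IsZero ((DerivedCategory.homologyFunctor (ModuleCat.{u} A) 0).obj C) :=
    ModuleCat.isZero_of_subsingleton _
  exact ((tilde.functor A).map_isZero hz).of_iso
    ((DerivedCategory.homologyFunctor _ 0).mapIso e.symm ≪≫ (Perfect.TildeD.HIso C 0))

/-- `H^i(E^∨)` vanishes near a closed point `x` when `Hom(E, κ(x)⟦i⟧) = 0`. -/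
theorem exists_open [IsLocallyNoetherian X] (x : X) (hx : IsClosed ({x} : Set X))
    (E : CochainComplex X.Modules ℤ) (hE : DCoh.IsPerfect (DCoh.toD X E))
    [DCoh.HasLTensorCx E] [DCoh.HasRSheafHom E] (i : ℤ)
    (h : ∀ φ : DCoh.toD X E ⟶ (shiftFunctor (DCoh.D X) i).obj
      (DCoh.inD X ((Coh.push (X.fromSpecResidueField x)).obj (Coh.structureModule _))), φ = 0) :
    ∃ U : X.Opens, x ∈ U ∧ ∀ y : X, y ∈ U →
      y ∉ CohB1.support (DCoh.HD ((DCoh.RSheafHom E).obj (DCoh.inD X (Coh.structureModule X))) i) := by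
  let P := (KFlat.res X).obj E
  let r : P ⟶ E := (KFlat.aug X).app E
  haveI : QuasiIso r := KFlat.quasiIso_aug _
  have hP : DCoh.IsKFlat P := KFlat.isKFlat_res _
  obtain ⟨J₀, hp, ⟨e⟩⟩ := DualMain.exists_dual hP r hE
  let D₀ := (DualHom.Hc P).obj J₀
  let D := (KFlat.res X).obj D₀
  haveI : QuasiIso ((KFlat.aug X).app D₀) := KFlat.quasiIso_aug _
  let eD₀ : DerivedCategory.Q.obj D ≅ DerivedCategory.Q.obj D₀ :=
    asIso (DerivedCategory.Q.map ((KFlat.aug X).app D₀))
  let eD := eD₀ ≪≫ e
  have hD : DCoh.IsKFlat D := KFlat.isKFlat_res _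
  have hDp : DCoh.IsPerfect (DerivedCategory.Q.obj D) :=
    Perfect.Triangle.isPerfect_of_iso eD₀.symm hp
  have hKp : DCoh.IsPerfect ((DCoh.RSheafHom E).obj (DCoh.inD X (Coh.structureModule X))) :=
    Perfect.Triangle.isPerfect_of_iso eD hDp
  let l := X.fromSpecResidueField x
  haveI : IsClosedImmersion l := isClosed_singleton_iff_isClosedImmersion.mp hx
  haveI := RHomO.Main.preservesFiniteLimits_push l
  haveI := RHomO.Main.preservesFiniteColimits_push l
  haveI := Exists.hasRpush l
  haveI := LeftExists.hasLpull l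
  let D' := (PullTranspose.pullC l).obj D
  haveI := LeftExists.hasLTensorCx D
  haveI := LeftExists.hasLTensorCx D'
  have hD' : DCoh.IsKFlat D' := KFlatPullback.isKFlat_pullback l hD
  let Z := Spec (X.residueField x)
  let A : CochainComplex Z.Modules ℤ := UnitTensor.one Z (-i)
  let M' := (DCoh.Rpush l).obj (DerivedCategory.Q.obj A)
  obtain ⟨ε⟩ := RHomO.Derived.nonempty_Rpush_iso l
  let eA : DerivedCategory.Q.obj A ≅ (DCoh.inD Z (Coh.structureModule Z))⟦i⟧ :=
    ((DerivedCategory.singleFunctorIsoCompQ Z.Modules (-i)).app _).symm ≪≫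
      (((DerivedCategory.singleFunctors Z.Modules).shiftIso i (-i) 0 (by omega)).app _).symm
  let eM : M' ≅ (DCoh.inD X ((Coh.push l).obj (Coh.structureModule Z)))⟦i⟧ :=
    (DCoh.Rpush l).mapIso eA ≪≫ ((DCoh.Rpush l).commShiftIso i).app _ ≪≫
      (shiftFunctor (DCoh.D X) i).mapIso (ε.app _ ≪≫
        ((Scheme.Modules.pushforward l).mapDerivedCategorySingleFunctor 0).app _)
  obtain ⟨t⟩ := DualMain.nonempty_LTensorCx_iso_RSheafHom hP r hE D eD M'
  obtain ⟨π⟩ := H15.PerfAdj.Proj.nonempty_iso l hD hDp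
  have hflat : DCoh.IsKFlat (DualFree.one X) := GammaAcyclic.isKFlat_single (fun y =>
    Module.Flat.of_linearEquiv (BettiExact.TorComp.stalkUnitEquiv X y)) 0
  haveI := TensorCoprod.isIso_counit_app_of_isKFlat E (DCoh.LTensorCx E)
    ((DCoh.tensorCxQ E).totalLeftDerivedCounit DerivedCategory.Q
      (HomologicalComplex.quasiIso X.Modules (.up ℤ))) hflat
  let v : (DCoh.LTensorCx E).obj (DerivedCategory.Q.obj (DualFree.one X)) ≅ DCoh.toD X E :=
    asIso (((DCoh.tensorCxQ E).totalLeftDerivedCounit DerivedCategory.Q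
        (HomologicalComplex.quasiIso X.Modules (.up ℤ))).app (DualFree.one X)) ≪≫
      DerivedCategory.Q.mapIso (DualBidual.commCx (DualFree.one X) E) ≪≫
      DerivedCategory.Q.mapIso (DualFree.unitIso.app E).symm
  -- no maps `O → M' ⊗ D`
  have h1 : ∀ φ : DerivedCategory.Q.obj (DualFree.one X) ⟶
      (DCoh.Rpush l).obj ((DCoh.LTensorCx D').obj (DerivedCategory.Q.obj A)), φ = 0 := fun φ => by
    let w : (DCoh.Rpush l).obj ((DCoh.LTensorCx D').obj (DerivedCategory.Q.obj A)) ≅
        (DCoh.RSheafHom E).obj M' := (π.app (DerivedCategory.Q.obj A)).symm ≪≫ t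
    refine (cancel_mono w.hom).1 (Eq.trans ?_ zero_comp.symm)
    refine ((DCoh.RSheafHomAdj E).homEquiv _ M').symm.injective ?_
    refine (cancel_epi v.inv).1 ((cancel_mono eM.hom).1 ?_)
    exact (h _).trans (h _).symm
  -- transport to the point
  have hflat' : DCoh.IsKFlat (DualFree.one Z) := GammaAcyclic.isKFlat_single (fun y =>
    Module.Flat.of_linearEquiv (BettiExact.TorComp.stalkUnitEquiv Z y)) 0
  obtain ⟨o⟩ := RpushCoprod.nonempty_Lpull_one (f := l)
  let jX : DerivedCategory.Q.obj (DualFree.one X) ≅ CompactUnit.oneD X :=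
    ((DerivedCategory.singleFunctorIsoCompQ X.Modules 0).app _).symm
  haveI := DualCompare.isIso_counit hD' A
  let q : (DCoh.LTensorCx D').obj (DerivedCategory.Q.obj A) ≅ DerivedCategory.Q.obj (D'⟦i⟧) :=
    asIso (((DCoh.tensorCxQ D').totalLeftDerivedCounit DerivedCategory.Q
        (HomologicalComplex.quasiIso Z.Modules (.up ℤ))).app A) ≪≫
      DerivedCategory.Q.mapIso (UnitTensor.unitShiftIso (-i) D' ≪≫
        (shiftFunctor (CochainComplex Z.Modules ℤ) (- -i)).mapIso (Iso.refl D') ≪≫
        eqToIso (congrArg (fun m => D'⟦m⟧) (neg_neg i)))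
  have h2 : ∀ ψ : CompactUnit.oneD Z ⟶ DerivedCategory.Q.obj (D'⟦i⟧), ψ = 0 := fun ψ => by
    refine (cancel_epi o.hom).1 (Eq.trans ?_ comp_zero.symm)
    refine (cancel_epi ((DCoh.Lpull l).mapIso jX).hom).1 ((cancel_mono q.inv).1 ?_)
    refine ((PullPushAdj.derivedAdjunction l).homEquiv _ _).injective ?_
    exact (h1 _).trans (h1 _).symm
  have hqG : DCoh.IsQCohD (DerivedCategory.Q.obj D') := by
    obtain ⟨i'⟩ : Nonempty ((DCoh.Lpull l).obj (DerivedCategory.Q.obj D) ≅ DerivedCategory.Q.obj D') :=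
      haveI := PullTranspose.isIso_counitCx l hD
      ⟨asIso ((PullTranspose.counitCx l).app D)⟩
    exact Perfect.QCohD.isQCohD_of_isPerfect
      (Perfect.Triangle.isPerfect_of_iso i' (Perfect.Pullback.isPerfect_Lpull l hDp))
  let sh : (DerivedCategory.Q.obj D')⟦i⟧ ≅ DerivedCategory.Q.obj (D'⟦i⟧) :=
    ((DerivedCategory.Q.commShiftIso i).app D').symm
  have hqG' : DCoh.IsQCohD (DerivedCategory.Q.obj (D'⟦i⟧)) := fun k =>
    (WayOut.Scheme.qc Z).prop_of_iso
      ((((DerivedCategory.homologyFunctor Z.Modules 0).shiftIso i k (i + k) rfl).app _).symm ≪≫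
        (DerivedCategory.homologyFunctor Z.Modules k).mapIso sh) (hqG (i + k))
  have hz : IsZero (((Pullback.pC l).obj D).homology i) :=
    (isZero_HD_zero _ hqG' h2).of_iso
      (((DerivedCategory.homologyFunctorFactors Z.Modules i).app D').symm ≪≫
        (((DerivedCategory.homologyFunctor Z.Modules 0).shiftIso i 0 i (add_zero i)).app _).symm ≪≫
        (DerivedCategory.homologyFunctor Z.Modules 0).mapIso sh)
  obtain ⟨s⟩ : Nonempty Z :=
    inferInstanceAs (Nonempty (PrimeSpectrum (IsLocalRing.ResidueField (X.presheaf.stalk x))))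
  have hs := subsingleton_stalk_of_fibre hKp (LeftExists.isCof_res D₀) eD
    (Field.toIsField (IsLocalRing.ResidueField (X.presheaf.stalk x))) l s i hz
  haveI := (Coherent.isCohD_of_isPerfect hKp i).2
  refine ⟨⟨(CohB1.support (DCoh.HD ((DCoh.RSheafHom E).obj
    (DCoh.inD X (Coh.structureModule X))) i))ᶜ, (Modules.Support.isClosed_support _).isOpen_compl⟩,
    fun hmem => hmem ?_, fun y hy => hy⟩
  simpa [l] using hs

end Groth.Agent.Lib.H15.NearPt.Main
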