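import Groth.Agent.Lib.H15.NearPt.Main
import Groth.Agent.H56.PointHom.Main
import Groth.Agent.H83.AmpleGen.GammaHom
import Groth.Agent.Lib.SchColim29.RpushTor
import Groth.Agent.Lib.DerivedOX.DualBidualPerfect

/-!
# Tests against the skyscraper at a closed point
-/

set_option autoImplicit false
set_option linter.style.haveILetI false
set_option linter.unusedSectionVars false

universe u

open CategoryTheory Limits AlgebraicGeometry HomologicalComplex

attribute [local instance] HasDerivedCategory.standard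

namespace Groth.Agent.Lib.H15.NearPt.Point

open Groth.Agent.Lib Groth.Agent.Lib.Modules Groth.Agent.Lib.Perfect Groth.Agent.Lib.DerivedOX
open Groth.Agent.Lib.Gen43.Ring (sg)

/-- Over a field, a nonzero map to a shift of the field is a split epimorphism. -/
theorem exists_section {A : Type u} [Field A] (C : Dual.D A) (n : ℤ)
    (ψ : C ⟶ (sg n).obj (ModuleCat.of A A)) (hψ : ψ ≠ 0) : ∃ s, s ≫ ψ = 𝟙 _ := by
  let M := ModuleCat.of A A
  let C' := DerivedCategory.Q.objPreimage C
  let e := DerivedCategory.Q.objObjPreimageIso C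
  let S : CochainComplex (ModuleCat.{u} A) ℤ := (single (ModuleCat.{u} A) (ComplexShape.up ℤ) n).obj M
  let es : (sg n).obj M ≅ DerivedCategory.Q.obj S :=
    (DerivedCategory.singleFunctorIsoCompQ (ModuleCat.{u} A) n).app M
  let ψ₀ : DerivedCategory.Q.obj C' ⟶ DerivedCategory.Q.obj S := e.hom ≫ ψ ≫ es.hom
  haveI : ∀ k, Injective (S.X k) := fun k => by
    haveI : Module.Injective A (S.X k) := Module.injective_of_isSemisimpleRing _ _
    exact Module.injective_object_of_injective_module A (S.X k)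
  haveI : S.IsStrictlyGE n :=
    inferInstanceAs (((CochainComplex.singleFunctor (ModuleCat.{u} A) n).obj M).IsStrictlyGE n)
  haveI : CochainComplex.IsKInjective S := CochainComplex.isKInjective_of_injective S n
  let q := DerivedCategory.quotientCompQhIso (ModuleCat.{u} A)
  obtain ⟨g, hg⟩ := (CochainComplex.IsKInjective.Qh_map_bijective
    ((HomotopyCategory.quotient _ _).obj C') S).2 (q.hom.app C' ≫ ψ₀ ≫ q.inv.app S)
  obtain ⟨f, rfl⟩ := (HomotopyCategory.quotient _ _).map_surjective g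
  have hf : DerivedCategory.Q.map f = ψ₀ := by
    have hn : DerivedCategory.Qh.map ((HomotopyCategory.quotient _ _).map f) ≫ q.hom.app S =
        q.hom.app C' ≫ DerivedCategory.Q.map f := q.hom.naturality f
    rw [hg, Category.assoc, Category.assoc, Iso.inv_hom_id_app] at hn
    exact ((cancel_epi (q.hom.app C')).1 (((congrArg (q.hom.app C' ≫ ·)
      (Category.comp_id ψ₀)).symm.trans hn))).symm
  let t := HomologicalComplex.singleObjXSelf (ComplexShape.up ℤ) n M
  let a : C'.X n ⟶ M := f.f n ≫ t.hom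
  by_cases hk : ∀ z, (C'.d n (n + 1)).hom z = 0 → a.hom z = 0
  · exfalso
    let d := (C'.d n (n + 1)).hom
    let b₀ : LinearMap.range d →ₗ[A] M :=
      ((LinearMap.ker d).liftQ a.hom fun z hz => hk z hz) ∘ₗ d.quotKerEquivRange.symm.toLinearMap
    obtain ⟨b, hb⟩ := b₀.exists_extend
    have hdb : C'.d n (n + 1) ≫ ModuleCat.ofHom b = a := by
      ext z
      have h2 := LinearMap.congr_fun hb ⟨d z, LinearMap.mem_range_self d z⟩
      refine h2.trans ?_
      simp only [b₀, LinearMap.comp_apply, LinearEquiv.coe_coe]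
      rw [LinearMap.quotKerEquivRange_symm_apply_image]
      rfl
    let h : ∀ p j, (ComplexShape.up ℤ).Rel j p → (C'.X p ⟶ S.X j) := fun p j hr =>
      if hj : j = n then eqToHom (congrArg C'.X ((hr.symm.trans (by rw [hj])) : p = n + 1)) ≫
        ModuleCat.ofHom b ≫ t.inv ≫ eqToHom (congrArg S.X hj.symm) else 0
    have hf0 : f = Homotopy.nullHomotopicMap' h := by
      refine HomologicalComplex.to_single_hom_ext ?_
      rw [Homotopy.nullHomotopicMap'_f (show (ComplexShape.up ℤ).Rel (n - 1) n from by simp)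
        (show (ComplexShape.up ℤ).Rel n (n + 1) from rfl) h]
      simp only [h, dif_pos rfl, eqToHom_refl, Category.id_comp, Category.comp_id]
      have h0 : S.d (n - 1) n = 0 := HomologicalComplex.single_obj_d _ _ _ _ _
      rw [h0, comp_zero, add_zero, ← Category.assoc, hdb]
      simp [a]
    have hq : (HomotopyCategory.quotient _ _).map f = 0 := by
      rw [hf0, HomotopyCategory.eq_of_homotopy _ _ (Homotopy.nullHomotopy' h), Functor.map_zero]
    apply hψ
    refine (cancel_epi e.hom).1 ((cancel_mono es.hom).1 ?_)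
    rw [comp_zero, zero_comp, Category.assoc]
    refine hf.symm.trans ((cancel_epi (q.hom.app C')).1 ?_)
    rw [comp_zero]
    refine (q.hom.naturality f).symm.trans ?_
    simp [hq]
  · push Not at hk
    obtain ⟨z, hz, haz⟩ := hk
    let z' : C'.X n := (a.hom z)⁻¹ • z
    let g : S ⟶ C' := HomologicalComplex.mkHomFromSingle
      (ModuleCat.ofHom (LinearMap.toSpanSingleton A (C'.X n) z')) fun k hk' => by
        obtain rfl : n + 1 = k := hk'
        ext
        simp [z', hz]
    have hgf : g ≫ f = 𝟙 S := by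
      refine HomologicalComplex.to_single_hom_ext ?_
      rw [← cancel_mono t.hom, ← cancel_epi t.inv]
      simp only [HomologicalComplex.comp_f, g, HomologicalComplex.id_f]
      erw [HomologicalComplex.mkHomFromSingle_f]
      simp only [Category.assoc, Iso.inv_hom_id_assoc, Category.id_comp, t, Iso.inv_hom_id]
      ext
      change a.hom ((1 : A) • z') = (1 : A)
      rw [one_smul, map_smul]
      exact inv_mul_cancel₀ haz
    refine ⟨es.hom ≫ DerivedCategory.Q.map g ≫ e.hom, ?_⟩
    have h1 : DerivedCategory.Q.map g ≫ ψ₀ = 𝟙 _ := by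
      rw [← hf, ← Functor.map_comp, hgf, CategoryTheory.Functor.map_id]
    simp only [Category.assoc]
    rw [show e.hom ≫ ψ = ψ₀ ≫ es.inv by simp [ψ₀], reassoc_of% h1, Iso.hom_inv_id]

open Groth.Agent.Lib.Gen43.Affine in
/-- The same on the spectrum of a field. -/
theorem exists_section_Spec {A : CommRingCat.{u}} (hA : IsField A) (G : DCoh.D (Spec A))
    (hG : DCoh.IsQCohD G) (m : ℤ) (ψ : G ⟶ (CompactUnit.oneD (Spec A))⟦m⟧) (hψ : ψ ≠ 0) :
    ∃ s, s ≫ ψ = 𝟙 _ := by
  obtain ⟨C, ⟨e⟩⟩ := TildeEquiv.exists_preimage A G hG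
  haveI := TildeEquiv.full A
  haveI := TildeEquiv.faithful A
  let o : (T A).obj ((sg (-m)).obj (ModuleCat.of A A)) ≅ (CompactUnit.oneD (Spec A))⟦m⟧ :=
    H83.ProjPCCrit.oneShiftIso (-m) m (by omega)
  let ψ' := (T A).preimage (e.hom ≫ ψ ≫ o.inv)
  have h' : ψ' ≠ 0 := fun h => hψ (by
    have h1 := congrArg (T A).map h
    rw [Functor.map_preimage, Functor.map_zero] at h1
    exact (cancel_epi e.hom).1 ((cancel_mono o.inv).1 (by rw [Category.assoc, h1, comp_zero, zero_comp])))
  obtain ⟨s, hs⟩ : ∃ s, s ≫ ψ' = 𝟙 _ := by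
    letI := hA.toField
    exact exists_section C (-m) ψ' h'
  refine ⟨o.inv ≫ (T A).map s ≫ e.hom, ?_⟩
  have h2 := congrArg (T A).map hs
  rw [Functor.map_comp, Functor.map_preimage, CategoryTheory.Functor.map_id] at h2
  rw [← cancel_mono o.inv]
  simp only [Category.assoc, Category.id_comp]
  rw [h2, Category.comp_id]

variable {X : Scheme.{u}} [IsNoetherian X] (x : X) (hx : IsClosed ({x} : Set X))

/-- The skyscraper at `x`. -/
noncomputable abbrev sky : X.Modules :=
  (Coh.push (X.fromSpecResidueField x)).obj (Coh.structureModule _)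

include hx in
/-- `H^i(K)` vanishes near `x` when `H^i(X, K ⊗^L κ(x)) = 0`. -/
theorem exists_open_of_RΓ (K : DCoh.D X) (hK : DCoh.IsPerfect K) [DCoh.HasRΓ X]
    [DCoh.HasLTensorMod (sky x)] (i : ℤ)
    (h : IsZero ((DerivedCategory.homologyFunctor AddCommGrpCat.{u} i).obj
      ((DCoh.RΓ X).obj ((DCoh.LTensorMod (sky x)).obj K)))) :
    ∃ U : X.Opens, x ∈ U ∧ ∀ y : X, y ∈ U → y ∉ CohB1.support (DCoh.HD K i) := by
  let P := (KFlat.res X).obj (DerivedCategory.Q.objPreimage K)
  haveI : QuasiIso ((KFlat.aug X).app (DerivedCategory.Q.objPreimage K)) := KFlat.quasiIso_aug _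
  let eP : DerivedCategory.Q.obj P ≅ K :=
    asIso (DerivedCategory.Q.map ((KFlat.aug X).app _)) ≪≫ DerivedCategory.Q.objObjPreimageIso K
  have hP : DCoh.IsKFlat P := KFlat.isKFlat_res _
  have hPp : DCoh.IsPerfect (DerivedCategory.Q.obj P) := Perfect.Triangle.isPerfect_of_iso eP.symm hK
  let l := X.fromSpecResidueField x
  haveI : IsClosedImmersion l := isClosed_singleton_iff_isClosedImmersion.mp hx
  haveI := RHomO.Main.preservesFiniteLimits_push l
  haveI := RHomO.Main.preservesFiniteColimits_push l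
  haveI := Exists.hasRpush l
  haveI := LeftExists.hasLpull l
  let P' := (PullTranspose.pullC l).obj P
  haveI := LeftExists.hasLTensorCx P
  haveI := LeftExists.hasLTensorCx P'
  have hP' : DCoh.IsKFlat P' := KFlatPullback.isKFlat_pullback l hP
  let Z := Spec (X.residueField x)
  let M : CochainComplex X.Modules ℤ := (single X.Modules (ComplexShape.up ℤ) 0).obj (sky x)
  haveI := LeftExists.hasLTensorCx M
  obtain ⟨ε⟩ := RHomO.Derived.nonempty_Rpush_iso l
  obtain ⟨s⟩ := SchColim29.RpushTor.nonempty_ltensorMod_iso (sky x) hP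
  obtain ⟨t⟩ := QCohLocal.nonempty_LTensorCx_iso M hP
  obtain ⟨π⟩ := H15.PerfAdj.Proj.nonempty_iso l hP hPp
  obtain ⟨w⟩ := H15.PerfAdj.Main.nonempty_one_tensor hP'
  haveI := DualCompare.isIso_counit hP M
  let eS : DerivedCategory.Q.obj M ≅ (DCoh.Rpush l).obj (DerivedCategory.Q.obj (DualFree.one Z)) :=
    ((DerivedCategory.singleFunctorIsoCompQ X.Modules 0).app _).symm ≪≫
      ((Scheme.Modules.pushforward l).mapDerivedCategorySingleFunctor 0).symm.app _ ≪≫
      (ε.app _).symm ≪≫
      (DCoh.Rpush l).mapIso ((DerivedCategory.singleFunctorIsoCompQ Z.Modules 0).app _)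
  let eZ : (DCoh.LTensorMod (sky x)).obj K ≅ (DCoh.Rpush l).obj (DerivedCategory.Q.obj P') :=
    (DCoh.LTensorMod (sky x)).mapIso eP.symm ≪≫ s ≪≫ t ≪≫
      DerivedCategory.Q.mapIso (TensorSymm.commCx P M) ≪≫
      (asIso (((DCoh.tensorCxQ P).totalLeftDerivedCounit DerivedCategory.Q
        (HomologicalComplex.quasiIso X.Modules (.up ℤ))).app M)).symm ≪≫
      (DCoh.LTensorCx P).mapIso eS ≪≫ π.app _ ≪≫ (DCoh.Rpush l).mapIso w
  have h0 : ∀ φ : (CompactUnit.oneD X)⟦-i⟧ ⟶ (DCoh.Rpush l).obj (DerivedCategory.Q.obj P'), φ = 0 :=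
    fun φ => (cancel_mono eZ.inv).1 ((H83.AmpleGen.eq_zero_of_isZero_RΓ _ (-i)
      (by rwa [neg_neg]) (φ ≫ eZ.inv)).trans zero_comp.symm)
  have h1 : ∀ φ : CompactUnit.oneD X ⟶
      ((DCoh.Rpush l).obj (DerivedCategory.Q.obj P'))⟦i⟧, φ = 0 := fun φ => by
    let c := (shiftFunctorCompIsoId (DCoh.D X) i (-i) (by omega)).app
      ((DCoh.Rpush l).obj (DerivedCategory.Q.obj P'))
    refine (shiftFunctor (DCoh.D X) (-i)).map_injective ?_
    rw [Functor.map_zero]
    exact (cancel_mono c.hom).1 ((h0 _).trans zero_comp.symm)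
  obtain ⟨o⟩ := RpushCoprod.nonempty_Lpull_one (f := l)
  let sh : (DerivedCategory.Q.obj P')⟦i⟧ ≅ DerivedCategory.Q.obj (P'⟦i⟧) :=
    ((DerivedCategory.Q.commShiftIso i).app P').symm
  let sr : (DCoh.Rpush l).obj (DerivedCategory.Q.obj (P'⟦i⟧)) ≅
      ((DCoh.Rpush l).obj (DerivedCategory.Q.obj P'))⟦i⟧ :=
    (DCoh.Rpush l).mapIso sh.symm ≪≫ ((DCoh.Rpush l).commShiftIso i).app _
  have h2 : ∀ ψ : CompactUnit.oneD Z ⟶ DerivedCategory.Q.obj (P'⟦i⟧), ψ = 0 := fun ψ => by
    refine (cancel_epi o.hom).1 (Eq.trans ?_ comp_zero.symm)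
    refine ((PullPushAdj.derivedAdjunction l).homEquiv _ _).injective ?_
    refine (cancel_mono sr.hom).1 ?_
    exact (h1 _).trans (h1 _).symm
  have hq : DCoh.IsQCohD (DerivedCategory.Q.obj P') := by
    obtain ⟨i'⟩ : Nonempty ((DCoh.Lpull l).obj (DerivedCategory.Q.obj P) ≅ DerivedCategory.Q.obj P') :=
      haveI := PullTranspose.isIso_counitCx l hP
      ⟨asIso ((PullTranspose.counitCx l).app P)⟩
    exact Perfect.QCohD.isQCohD_of_isPerfect
      (Perfect.Triangle.isPerfect_of_iso i' (Perfect.Pullback.isPerfect_Lpull l hPp))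
  have hq' : DCoh.IsQCohD (DerivedCategory.Q.obj (P'⟦i⟧)) := fun k =>
    (WayOut.Scheme.qc Z).prop_of_iso
      ((((DerivedCategory.homologyFunctor Z.Modules 0).shiftIso i k (i + k) rfl).app _).symm ≪≫
        (DerivedCategory.homologyFunctor Z.Modules k).mapIso sh) (hq (i + k))
  have hz : IsZero (((Pullback.pC l).obj P).homology i) :=
    (Main.isZero_HD_zero _ hq' h2).of_iso
      (((DerivedCategory.homologyFunctorFactors Z.Modules i).app P').symm ≪≫
        (((DerivedCategory.homologyFunctor Z.Modules 0).shiftIso i 0 i (add_zero i)).app _).symm ≪≫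
        (DerivedCategory.homologyFunctor Z.Modules 0).mapIso sh)
  obtain ⟨p⟩ : Nonempty Z :=
    inferInstanceAs (Nonempty (PrimeSpectrum (IsLocalRing.ResidueField (X.presheaf.stalk x))))
  have hs := Main.subsingleton_stalk_of_fibre hK (LeftExists.isCof_res _) eP
    (Field.toIsField (IsLocalRing.ResidueField (X.presheaf.stalk x))) l p i hz
  haveI := (Perfect.Coherent.isCohD_of_isPerfect hK i).2
  refine ⟨⟨(CohB1.support (DCoh.HD K i))ᶜ, (Modules.Support.isClosed_support _).isOpen_compl⟩,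
    fun hmem => hmem ?_, fun y hy => hy⟩
  simpa [l] using hs

include hx in
/-- `H^{i-d}(K)` vanishes near `x` when `Hom(κ(x), K⟦i⟧) = 0`. -/
theorem exists_open_of_hom [IsRegularLocalRing (X.presheaf.stalk x)] (d : ℕ)
    (hd : ringKrullDim (X.presheaf.stalk x) = d) (K : DCoh.D X) (hK : DCoh.IsPerfect K) (i : ℤ)
    (h : ∀ φ : DCoh.inD X (sky x) ⟶ (shiftFunctor (DCoh.D X) i).obj K, φ = 0) :
    ∃ U : X.Opens, x ∈ U ∧ ∀ y : X, y ∈ U → y ∉ CohB1.support (DCoh.HD K (i - d)) := by
  let P := (KFlat.res X).obj (DerivedCategory.Q.objPreimage K)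
  haveI : QuasiIso ((KFlat.aug X).app (DerivedCategory.Q.objPreimage K)) := KFlat.quasiIso_aug _
  let eP : DerivedCategory.Q.obj P ≅ K :=
    asIso (DerivedCategory.Q.map ((KFlat.aug X).app _)) ≪≫ DerivedCategory.Q.objObjPreimageIso K
  have hP : DCoh.IsKFlat P := KFlat.isKFlat_res _
  have hPp : DCoh.IsPerfect (DerivedCategory.Q.obj P) := Perfect.Triangle.isPerfect_of_iso eP.symm hK
  haveI := LeftExists.hasLTensorCx P
  haveI := DualHomExists.hasRSheafHom P
  obtain ⟨J₀, hp, ⟨e⟩⟩ := DualMain.exists_dual hP (𝟙 P) hPp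
  let D := (KFlat.res X).obj ((DualHom.Hc P).obj J₀)
  haveI : QuasiIso ((KFlat.aug X).app ((DualHom.Hc P).obj J₀)) := KFlat.quasiIso_aug _
  let eD₀ : DerivedCategory.Q.obj D ≅ DerivedCategory.Q.obj ((DualHom.Hc P).obj J₀) :=
    asIso (DerivedCategory.Q.map ((KFlat.aug X).app _))
  have hD : DCoh.IsKFlat D := KFlat.isKFlat_res _
  have hDp : DCoh.IsPerfect (DerivedCategory.Q.obj D) :=
    Perfect.Triangle.isPerfect_of_iso eD₀.symm hp
  haveI := LeftExists.hasLTensorCx D
  haveI := DualHomExists.hasRSheafHom D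
  obtain ⟨bd⟩ := DualBidualPerfect.nonempty_dual_dual hD hPp (eD₀ ≪≫ e)
  let l := X.fromSpecResidueField x
  haveI : IsClosedImmersion l := isClosed_singleton_iff_isClosedImmersion.mp hx
  haveI := RHomO.Main.preservesFiniteLimits_push l
  haveI := RHomO.Main.preservesFiniteColimits_push l
  haveI := Exists.hasRpush l
  haveI := LeftExists.hasLpull l
  let D' := (PullTranspose.pullC l).obj D
  haveI := LeftExists.hasLTensorCx D'
  have hD' : DCoh.IsKFlat D' := KFlatPullback.isKFlat_pullback l hD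
  let Z := Spec (X.residueField x)
  obtain ⟨ε⟩ := RHomO.Derived.nonempty_Rpush_iso l
  let m : ℤ := i - d
  let M' := (DCoh.Rpush l).obj ((CompactUnit.oneD Z)⟦m⟧)
  let eO : (DCoh.Rpush l).obj (CompactUnit.oneD Z) ≅ DCoh.inD X (sky x) :=
    ε.app _ ≪≫ ((Scheme.Modules.pushforward l).mapDerivedCategorySingleFunctor 0).app _
  let eM : M' ≅ (DCoh.inD X (sky x))⟦m⟧ :=
    ((DCoh.Rpush l).commShiftIso m).app _ ≪≫ (shiftFunctor (DCoh.D X) m).mapIso eO
  haveI := PullTranspose.isIso_counitCx l hD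
  let c : (DCoh.Lpull l).obj (DerivedCategory.Q.obj D) ≅ DerivedCategory.Q.obj D' :=
    asIso ((PullTranspose.counitCx l).app D)
  have hqD : DCoh.IsQCohD (DerivedCategory.Q.obj D') := Perfect.QCohD.isQCohD_of_isPerfect
    (Perfect.Triangle.isPerfect_of_iso c (Perfect.Pullback.isPerfect_Lpull l hDp))
  obtain ⟨U, hxU, hU⟩ := Main.exists_open x hx D hDp m fun φ => by
    by_contra hφ
    let ψ₀ := ((PullPushAdj.derivedAdjunction l).homEquiv _ _).symm (φ ≫ eM.inv)
    let ψ := c.inv ≫ ψ₀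
    have hψ : ψ ≠ 0 := fun h0 => hφ (by
      have h1 : ψ₀ = 0 := (cancel_epi c.inv).1 (h0.trans comp_zero.symm)
      have h2 := congrArg ((PullPushAdj.derivedAdjunction l).homEquiv _ _) h1
      rw [Equiv.apply_symm_apply, Adjunction.homEquiv_unit, Functor.map_zero, comp_zero] at h2
      exact (cancel_mono eM.inv).1 (h2.trans zero_comp.symm))
    obtain ⟨s, hs⟩ := exists_section_Spec
      (Field.toIsField (IsLocalRing.ResidueField (X.presheaf.stalk x))) _ hqD m ψ hψ
    obtain ⟨π⟩ := H15.PerfAdj.Proj.nonempty_iso l hD hDp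
    obtain ⟨w⟩ := H15.PerfAdj.Main.nonempty_one_tensor hD'
    let v : (DCoh.LTensorCx D).obj (DCoh.inD X (sky x)) ≅ (DCoh.Rpush l).obj (DerivedCategory.Q.obj D') :=
      (DCoh.LTensorCx D).mapIso (eO.symm ≪≫
        (DCoh.Rpush l).mapIso ((DerivedCategory.singleFunctorIsoCompQ Z.Modules 0).app _)) ≪≫
        π.app _ ≪≫ (DCoh.Rpush l).mapIso w
    obtain ⟨ε', hε'⟩ := H56.PointHom.exists_hom_from_sky hx hd
      (M := Coh.structureModule X) RefHull.Reflexive.isCoh_structure (fun hsub =>
        not_subsingleton (X.presheaf.stalk x)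
          ((BettiExact.TorComp.stalkUnitEquiv X x).toEquiv.subsingleton_congr.1 hsub)) (-i)
    let eS : (DCoh.inD X (sky x))⟦m⟧ ≅
        (DerivedCategory.singleFunctor X.Modules (-i + d)).obj (sky x) :=
      (((DerivedCategory.singleFunctors X.Modules).shiftIso m (-i + d) 0 (by omega)).app _)
    let ε'' : M' ⟶ (DerivedCategory.singleFunctor X.Modules (-i)).obj (Coh.structureModule X) :=
      eM.hom ≫ eS.hom ≫ ε'
    let N := DerivedCategory.Q.obj (UnitTensor.one X (-i))
    let eN : (DerivedCategory.singleFunctor X.Modules (-i)).obj (Coh.structureModule X) ≅ N :=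
      (DerivedCategory.singleFunctorIsoCompQ X.Modules (-i)).app _
    obtain ⟨t⟩ := DualMain.nonempty_LTensorCx_iso_RSheafHom hD (𝟙 D) hDp P bd.symm N
    haveI := DualCompare.isIso_counit hP (UnitTensor.one X (-i))
    let r : (DCoh.RSheafHom D).obj N ≅ (shiftFunctor (DCoh.D X) i).obj K :=
      t.symm ≪≫ asIso (((DCoh.tensorCxQ P).totalLeftDerivedCounit DerivedCategory.Q
        (HomologicalComplex.quasiIso X.Modules (.up ℤ))).app (UnitTensor.one X (-i))) ≪≫
      DerivedCategory.Q.mapIso (UnitTensor.unitShiftIso (-i) P ≪≫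
        eqToIso (congrArg (fun m => P⟦m⟧) (neg_neg i))) ≪≫
      (DerivedCategory.Q.commShiftIso i).app P ≪≫ (shiftFunctor (DCoh.D X) i).mapIso eP
    let g := v.hom ≫ (DCoh.Rpush l).map ψ ≫ ε'' ≫ eN.hom
    have hg : g = 0 := by
      refine ((DCoh.RSheafHomAdj D).homEquiv _ _).injective ((cancel_mono r.hom).1 ?_)
      exact (h _).trans (h _).symm
    apply hε'
    have h3 : (DCoh.Rpush l).map ψ ≫ ε'' ≫ eN.hom = 0 :=
      (cancel_epi v.hom).1 (hg.trans comp_zero.symm)
    have h4 : ε'' ≫ eN.hom = 0 := by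
      rw [← Category.id_comp (ε'' ≫ eN.hom), ← CategoryTheory.Functor.map_id, ← hs,
        Functor.map_comp, Category.assoc, h3, comp_zero]
    have h5 : ε'' = 0 := (cancel_mono eN.hom).1 (h4.trans zero_comp.symm)
    exact (cancel_epi eS.hom).1 ((cancel_epi eM.hom).1
      (h5.trans (by rw [comp_zero, comp_zero])))
  refine ⟨U, hxU, fun y hy hmem => hU y hy ?_⟩
  rw [Modules.Support.support_congr ((DerivedCategory.homologyFunctor X.Modules m).mapIso
    (bd ≪≫ eP))]
  exact hmem

include hx in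
/-- All cohomology vanishes on one open when each degree does near `x`. -/
theorem exists_open_all (K : DCoh.D X) (hK : DCoh.IsPerfect K)
    (h : ∀ i : ℤ, ∃ U : X.Opens, x ∈ U ∧ ∀ y : X, y ∈ U → y ∉ CohB1.support (DCoh.HD K i)) :
    ∃ U : X.Opens, x ∈ U ∧ ∀ (i : ℤ) (y : X), y ∈ U → y ∉ CohB1.support (DCoh.HD K i) := by
  obtain ⟨a, b, ha, hb⟩ := Perfect.Coherent.bounded_of_isPerfect hK
  choose U hxU hU using h
  refine ⟨(Finset.Icc a b).inf U, ?_, fun i y hy hmem => ?_⟩
  · suffices ∀ s : Finset ℤ, x ∈ s.inf U from this _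
    intro s
    induction s using Finset.induction_on with
    | empty => simp
    | insert k s _ ih => rw [Finset.inf_insert]; exact ⟨hxU k, ih⟩
  · by_cases hi : i ∈ Finset.Icc a b
    · exact hU i y (Finset.inf_le (f := U) hi hy) hmem
    · have hz : IsZero (DCoh.HD K i) := by
        rw [Finset.mem_Icc] at hi
        rcases lt_or_ge i a with hlt | hge
        · exact (DerivedCategory.isGE_iff K a).1 ha i hlt
        · exact (DerivedCategory.isLE_iff K b).1 hb i (by omega)
      rw [Modules.Support.support_eq_empty_iff.2 hz] at hmem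
      exact hmem

end Groth.Agent.Lib.H15.NearPt.Point
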